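import Cfsg.Agent.PGroups.RankTwoOdd
import Cfsg.Agent.PGroups.Basic

/-!
A `p`-group, `p` odd, whose elements of order `p` are central needs no more generators than the rank of
these elements.
-/

set_option autoImplicit false
set_option linter.style.haveILetI false
set_option linter.unusedSectionVars false

namespace Cfsg.Lib.GenBound

open Subgroup
open scoped commutatorElement

universe u

theorem exists_generators {p : ℕ} [hp : Fact p.Prime] (hp2 : p ≠ 2) : ∀ (N : ℕ) (D : Type u) [Group D] [Finite D],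
    Nat.card D = N → IsPGroup p D → (∀ x : D, x ^ p = 1 → x ∈ center D) → ∀ r : ℕ,
      Nat.card {x : D // x ^ p = 1} ≤ p ^ r →
      ∃ T : Finset D, T.card ≤ r ∧ closure (T : Set D) = ⊤ := by
  intro N
  induction N using Nat.strong_induction_on with
  | _ N ih =>
  intro D _ _ hN hD hc r hr
  classical
  rcases subsingleton_or_nontrivial D with hsub | hnt
  · exact ⟨∅, Nat.zero_le r, Subsingleton.elim _ _⟩
  set W : Subgroup D := Cfsg.Lib.PGroups.RankTwoOdd.powRoot hp2 hD hc ⊥ bot_le with hW
  have hWmem : ∀ x : D, x ∈ W ↔ x ^ p = 1 := fun x => mem_bot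
  have hWcard : Nat.card W = Nat.card {x : D // x ^ p = 1} :=
    Nat.card_congr (Equiv.subtypeEquivRight hWmem)
  have hWc : W ≤ center D := fun x hx => hc x ((hWmem x).mp hx)
  haveI : W.Normal := ⟨fun x hx g => by
    rw [mem_center_iff.mp (hWc hx) g, mul_inv_cancel_right]; exact hx⟩
  obtain ⟨z₀, hz₀⟩ := exists_prime_orderOf_dvd_card' (G := D) p (by
    obtain ⟨i, hi⟩ := IsPGroup.iff_card.mp hD
    rw [hi]
    refine dvd_pow_self p fun h0 => ?_
    rw [h0, pow_zero] at hi
    exact not_subsingleton D (Nat.card_eq_one_iff_unique.mp hi).1)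
  have hWne : 1 < Nat.card W := by
    refine (one_lt_card_iff_ne_bot _).mpr fun e => ?_
    have h1 : z₀ ∈ W := (hWmem z₀).mpr (by rw [← hz₀, pow_orderOf_eq_one])
    rw [e, mem_bot] at h1
    rw [h1, orderOf_one] at hz₀
    exact hp.out.one_lt.ne hz₀
  by_cases hΦ : W ≤ frattini D
  · -- factor out the elements of order `p`
    have hq : Nat.card (D ⧸ W) < N := by
      rw [← hN, Subgroup.card_eq_card_quotient_mul_card_subgroup W]
      exact (Nat.lt_mul_iff_one_lt_right Nat.card_pos).mpr hWne
    set W₂ : Subgroup D := Cfsg.Lib.PGroups.RankTwoOdd.powRoot hp2 hD hc W hWc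
    set f := QuotientGroup.mk' W
    have hroot : ∀ q : D ⧸ W, q ^ p = 1 → q ∈ W₂.map f := by
      intro q hq
      obtain ⟨x, rfl⟩ := QuotientGroup.mk'_surjective W q
      refine ⟨x, ?_, rfl⟩
      show x ^ p ∈ W
      rw [← QuotientGroup.eq_one_iff]
      show f (x ^ p) = 1
      rw [map_pow]; exact hq
    have hc' : ∀ q : D ⧸ W, q ^ p = 1 → q ∈ center (D ⧸ W) := by
      intro q hq
      obtain ⟨x, hx, rfl⟩ := hroot q hq
      refine mem_center_iff.mpr fun g => ?_
      obtain ⟨g, rfl⟩ := QuotientGroup.mk'_surjective W g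
      refine commutatorElement_eq_one_iff_mul_comm.mp ?_
      rw [← map_commutatorElement]
      exact (QuotientGroup.eq_one_iff _).mpr ((hWmem _).mpr
        (Cfsg.Lib.PGroups.RankTwoOdd.comm_pow_one hp2 hD hc (hWc hx) g))
    have hcard : Nat.card {q : D ⧸ W // q ^ p = 1} ≤ p ^ r := by
      refine (Nat.card_le_card_of_injective (fun q : {q : D ⧸ W // q ^ p = 1} => (⟨q.1, hroot q.1 q.2⟩ : W₂.map f))
        fun a b h => Subtype.ext (congrArg (fun z : W₂.map f => (z : D ⧸ W)) h)).trans ?_
      refine le_trans ?_ (hWcard ▸ hr)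
      have h1 := Subgroup.relIndex_ker (f := f) (K := W₂)
      rw [QuotientGroup.ker_mk'] at h1
      have hle : W ≤ W₂ := fun x hx => show x ^ p ∈ W by rw [(hWmem x).mp hx]; exact one_mem W
      have h2 := relIndex_mul_relIndex (⊥ : Subgroup D) W W₂ bot_le hle
      rw [relIndex_bot_left, relIndex_bot_left] at h2
      have h3 := Cfsg.Lib.PGroups.RankTwoOdd.card_powRoot_le hp2 hD hc W hWc W (fun x hx => (hWmem x).mpr hx)
      rw [← h1]
      refine Nat.le_of_mul_le_mul_left ?_ (Nat.card_pos (α := W))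
      rw [h2]
      exact h3
    obtain ⟨T, hT, hTc⟩ := ih _ hq (D ⧸ W) rfl (hD.to_quotient W) hc' r hcard
    refine ⟨T.image (Function.surjInv (QuotientGroup.mk'_surjective W)), Finset.card_image_le.trans hT, ?_⟩
    refine frattini_nongenerating (eq_top_iff.mpr ((?_ : ⊤ ≤ _ ⊔ W).trans (sup_le_sup_left hΦ _)))
    intro x _
    have h1 : f x ∈ closure (T : Set (D ⧸ W)) := hTc.ge (mem_top _)
    have h2 : closure (T : Set (D ⧸ W)) ≤
        (closure ((T.image (Function.surjInv (QuotientGroup.mk'_surjective W)) : Finset D) : Set D)).map f := by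
      rw [closure_le]
      intro t ht
      exact ⟨_, subset_closure (Finset.mem_coe.mpr (Finset.mem_image_of_mem _ ht)),
        Function.surjInv_eq (QuotientGroup.mk'_surjective W) t⟩
    obtain ⟨y, hy, hyx⟩ := h2 h1
    have h3 : y⁻¹ * x ∈ W := (QuotientGroup.eq (s := W)).mp hyx
    simpa using mul_mem (mem_sup_left hy) (mem_sup_right h3 : y⁻¹ * x ∈ _ ⊔ W)
  · -- split off a generator
    simp only [frattini, Order.radical, le_iInf_iff, not_forall] at hΦ
    obtain ⟨M, hM, hWM⟩ := hΦ
    obtain ⟨z, hzW, hzM⟩ := SetLike.not_le_iff_exists.mp hWM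
    have hMlt : Nat.card M < N := hN ▸ lt_of_le_of_ne (card_le_card_group M)
      fun e => hM.1 (eq_top_of_card_eq M e)
    have hr1 : 1 ≤ r := by
      by_contra h0
      rw [show r = 0 by omega, pow_zero, ← hWcard] at hr
      omega
    have hlt : Nat.card {x : M // x ^ p = 1} ≤ p ^ (r - 1) := by
      let e : {x : M // x ^ p = 1} ≃ ↥(M ⊓ W) :=
        { toFun := fun x => ⟨(x.1 : D), x.1.2, (hWmem _).mpr (congrArg Subtype.val x.2)⟩
          invFun := fun x => ⟨⟨(x : D), x.2.1⟩, Subtype.ext ((hWmem _).mp x.2.2)⟩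
          left_inv := fun x => rfl
          right_inv := fun x => rfl }
      rw [Nat.card_congr e]
      obtain ⟨i, hi⟩ := IsPGroup.iff_card.mp (hD.to_subgroup (M ⊓ W))
      rw [hi]
      refine Nat.pow_le_pow_right hp.out.pos ?_
      have h1 : Nat.card ↥(M ⊓ W) < p ^ r := lt_of_lt_of_le (lt_of_le_of_ne (card_le_of_le inf_le_right)
        fun e' => hzM ((Subgroup.eq_of_le_of_card_ge inf_le_right e'.ge).ge hzW).1) (hWcard ▸ hr)
      rw [hi] at h1
      have := (Nat.pow_lt_pow_iff_right hp.out.one_lt).mp h1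
      omega
    obtain ⟨T, hT, hTc⟩ := ih _ hMlt M rfl (hD.to_subgroup M) (fun x hx => mem_center_iff.mpr fun y =>
      Subtype.ext (mem_center_iff.mp (hc _ (congrArg Subtype.val hx)) (y : D))) (r - 1) hlt
    refine ⟨insert z (T.image Subtype.val), (Finset.card_insert_le _ _).trans ?_, ?_⟩
    · have := Finset.card_image_le (f := (Subtype.val : M → D)) (s := T)
      omega
    · set K := closure ((insert z (T.image Subtype.val) : Finset D) : Set D)
      have hMK : M ≤ K := by
        rw [← range_subtype M, MonoidHom.range_eq_map, ← hTc, MonoidHom.map_closure, closure_le]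
        rintro _ ⟨t, ht, rfl⟩
        exact subset_closure (Finset.mem_coe.mpr (Finset.mem_insert_of_mem (Finset.mem_image_of_mem _ ht)))
      exact hM.2 K (lt_of_le_of_ne hMK fun e => hzM (e ▸ subset_closure
        (Finset.mem_coe.mpr (Finset.mem_insert_self z _))))

end Cfsg.Lib.GenBound
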