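import Cfsg.Agent.PGroups.GenBound.Turan
import Cfsg.Agent.PGroups.Basic
import Cfsg.Agent.PGroups.Bounds
import Cfsg.Agent.Coprime.Basic

/-!
Leading positions of the action of a `p`-group on a chief series of a normal elementary abelian subgroup.
-/

set_option autoImplicit false
set_option linter.style.haveILetI false
set_option linter.unusedSectionVars false

namespace Cfsg.Lib.GenBound

open Subgroup
open scoped commutatorElement Classical

universe u

variable {P : Type u} [Group P] [Finite P] {p : ℕ} [hp : Fact p.Prime]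

/-- A central series with cyclic factors of order `p` of an elementary abelian subgroup. -/
structure Flag (P : Type u) [Group P] (p : ℕ) where
  a : ℕ
  A : ℕ → Subgroup P
  e : ℕ → P
  bot : A 0 = ⊥
  le_of : ∀ i j, i ≤ j → A i ≤ A j
  comm : ∀ x ∈ A a, ∀ y ∈ A a, x * y = y * x
  mem : ∀ i < a, e i ∈ A (i + 1)
  nmem : ∀ i < a, e i ∉ A i
  span : ∀ i < a, A (i + 1) = A i ⊔ zpowers (e i)
  pow : ∀ i < a, ∀ x ∈ A (i + 1), x ^ p ∈ A i
  central : ∀ i < a, ∀ x ∈ A (i + 1), ∀ h : P, ⁅h, x⁆ ∈ A i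

namespace Flag

variable (F : Flag P p)

theorem conj_mem {i : ℕ} (hi : i ≤ F.a) {x : P} (hx : x ∈ F.A i) (h : P) : h * x * h⁻¹ ∈ F.A i := by
  rcases Nat.eq_zero_or_pos i with rfl | hpos
  · rw [F.bot, mem_bot] at hx ⊢
    rw [hx]; group
  · obtain ⟨j, rfl⟩ : ∃ j, i = j + 1 := ⟨i - 1, by omega⟩
    have h1 := mul_mem (F.le_of j (j + 1) (Nat.le_succ j) (F.central j hi x hx h)) hx
    rwa [commutatorElement_def, inv_mul_cancel_right] at h1

/-- `h` fixes the subgroups before column `j` and moves `e j` to position `i` -/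
def Lead (h : P) (i j : ℕ) : Prop :=
  i < j ∧ j < F.a ∧ (∀ v ∈ F.A j, Commute h v) ∧ ⁅h, F.e j⁆ ∈ F.A (i + 1) ∧ ⁅h, F.e j⁆ ∉ F.A i

theorem commutator_mul_of_fixed {h h' x : P} (hfix : Commute h ⁅h', x⁆) :
    ⁅h * h', x⁆ = ⁅h', x⁆ * ⁅h, x⁆ := by
  have e : ⁅h * h', x⁆ = h * ⁅h', x⁆ * h⁻¹ * ⁅h, x⁆ := by
    simp only [commutatorElement_def]; group
  rw [e, hfix.eq, mul_inv_cancel_right]

/-- A decomposition along the last factor. -/
theorem exists_decomp {i : ℕ} (hi : i < F.a) {w : P} (hw : w ∈ F.A (i + 1)) :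
    ∃ r ∈ F.A i, ∃ t : ℤ, w = r * F.e i ^ t := by
  rw [F.span i hi] at hw
  have hn : zpowers (F.e i) ≤ normalizer (F.A i : Set P) := zpowers_le.mpr
    (mem_normalizer_iff.mpr fun r => by
      refine ⟨fun hr => F.conj_mem hi.le hr (F.e i), fun hr => ?_⟩
      have := F.conj_mem hi.le hr (F.e i)⁻¹
      rwa [show (F.e i)⁻¹ * (F.e i * r * (F.e i)⁻¹) * (F.e i)⁻¹⁻¹ = r by group] at this)
  obtain ⟨r, hr, y, hy, rfl⟩ := (Cfsg.Lib.Coprime.mem_sup_of_le_normalizer hn).mp hw
  obtain ⟨t, rfl⟩ := mem_zpowers_iff.mp hy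
  exact ⟨r, hr, t, rfl⟩

theorem Lead.commutator {F : Flag P p} {a b : P} {i j l : ℕ} (ha : F.Lead a i j) (hb : F.Lead b j l) :
    F.Lead ⁅a, b⁆ i l := by
  obtain ⟨hij, hj, hafix, ha1, ha2⟩ := ha
  obtain ⟨hjl, hl, hbfix, hb1, hb2⟩ := hb
  have hAl : ∀ {v}, v ∈ F.A l → v ∈ F.A F.a := fun hv => F.le_of l _ hl.le hv
  refine ⟨hij.trans hjl, hl, fun v hv => ?_, ?_⟩
  · have h1 : a⁻¹ * v * a ∈ F.A l := by simpa using F.conj_mem hl.le hv a⁻¹
    have h3 : b⁻¹ * v * b = v := by
      rw [mul_assoc, ← (hbfix v hv).eq, inv_mul_cancel_left]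
    have h4 : b * (a⁻¹ * v * a) * b⁻¹ = a⁻¹ * v * a := by
      rw [(hbfix _ h1).eq, mul_inv_cancel_right]
    show ⁅a, b⁆ * v = v * ⁅a, b⁆
    refine mul_inv_eq_iff_eq_mul.mp ?_
    calc ⁅a, b⁆ * v * ⁅a, b⁆⁻¹ = a * (b * (a⁻¹ * (b⁻¹ * v * b) * a) * b⁻¹) * a⁻¹ := by
          rw [commutatorElement_def]; group
      _ = v := by rw [h3, h4]; group
  set x := F.e l with hx
  set w := ⁅b, x⁆ with hw
  have hwA : w ∈ F.A l := F.le_of (j + 1) l hjl hb1
  have huA : ⁅a, x⁆ ∈ F.A l := F.central l hl x (F.mem l hl) a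
  set u := ⁅a, x⁆ with hu
  have hbx : b * x * b⁻¹ = w * x := by rw [hw, commutatorElement_def, inv_mul_cancel_right]
  have hax : a * x * a⁻¹ = u * x := by rw [hu, commutatorElement_def, inv_mul_cancel_right]
  have hbfix' : ∀ v ∈ F.A l, b * v * b⁻¹ = v := fun v hv => by rw [(hbfix v hv).eq, mul_inv_cancel_right]
  -- the image of `x`
  have hbx' : b⁻¹ * x * b = w⁻¹ * x := by
    have := hbfix' w⁻¹ (inv_mem hwA)
    calc b⁻¹ * x * b = b⁻¹ * (w⁻¹ * (w * x)) * b := by group
      _ = b⁻¹ * (b * w⁻¹ * b⁻¹ * (b * x * b⁻¹)) * b := by rw [hbx, this]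
      _ = w⁻¹ * x := by group
  set u' := a⁻¹ * u⁻¹ * a with hu'
  have hu'A : u' ∈ F.A l := by simpa [hu'] using F.conj_mem hl.le (inv_mem huA) a⁻¹
  have hax' : a⁻¹ * x * a = u' * x := by
    calc a⁻¹ * x * a = a⁻¹ * (u⁻¹ * (u * x)) * a := by group
      _ = a⁻¹ * (u⁻¹ * (a * x * a⁻¹)) * a := by rw [hax]
      _ = u' * x := by rw [hu']; group
  set w' := a⁻¹ * w⁻¹ * a with hw'
  have hw'A : w' ∈ F.A l := by simpa [hw'] using F.conj_mem hl.le (inv_mem hwA) a⁻¹
  have hwa : a * w * a⁻¹ ∈ F.A l := F.conj_mem hl.le hwA a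
  have key : ⁅⁅a, b⁆, x⁆ = ⁅a, w⁆ := by
    have hc : ⁅a, b⁆ * x * ⁅a, b⁆⁻¹ = a * w * a⁻¹ * w⁻¹ * x := by
      calc ⁅a, b⁆ * x * ⁅a, b⁆⁻¹ = a * (b * (a⁻¹ * (b⁻¹ * x * b) * a) * b⁻¹) * a⁻¹ := by
            rw [commutatorElement_def]; group
        _ = a * (b * (w' * (a⁻¹ * x * a)) * b⁻¹) * a⁻¹ := by rw [hbx', hw']; group
        _ = a * (b * (w' * u') * b⁻¹ * (b * x * b⁻¹)) * a⁻¹ := by rw [hax']; group
        _ = a * ((w' * u') * (w * x)) * a⁻¹ := by rw [hbfix' _ (mul_mem hw'A hu'A), hbx]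
        _ = w⁻¹ * u⁻¹ * (a * w * a⁻¹) * (a * x * a⁻¹) := by rw [hw', hu']; group
        _ = w⁻¹ * u⁻¹ * (a * w * a⁻¹ * u) * x := by rw [hax]; group
        _ = w⁻¹ * u⁻¹ * (u * (a * w * a⁻¹)) * x := by rw [F.comm _ (hAl hwa) _ (hAl huA)]
        _ = w⁻¹ * (a * w * a⁻¹) * x := by group
        _ = a * w * a⁻¹ * w⁻¹ * x := by rw [F.comm _ (hAl (inv_mem hwA)) _ (hAl hwa)]
    calc ⁅⁅a, b⁆, x⁆ = ⁅a, b⁆ * x * ⁅a, b⁆⁻¹ * x⁻¹ := commutatorElement_def _ _
      _ = a * w * a⁻¹ * w⁻¹ := by rw [hc, mul_inv_cancel_right]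
      _ = ⁅a, w⁆ := (commutatorElement_def _ _).symm
  rw [key]
  obtain ⟨r, hr, t, hrt⟩ := F.exists_decomp hj hb1
  have he : F.e j ∈ F.A F.a := F.le_of (j + 1) _ hj (F.mem j hj)
  have hej : ⁅a, w⁆ = ⁅a, F.e j⁆ ^ t := by
    have h1 : a * w * a⁻¹ = r * (a * F.e j * a⁻¹) ^ t := by
      rw [conj_zpow, hrt]
      calc a * (r * F.e j ^ t) * a⁻¹ = (a * r) * F.e j ^ t * a⁻¹ := by group
        _ = _ := by rw [(hafix r hr).eq]; group
    have hA : a * F.e j * a⁻¹ ∈ F.A F.a := F.conj_mem le_rfl he a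
    have hd : (a * F.e j * a⁻¹ * (F.e j)⁻¹) ^ t = (a * F.e j * a⁻¹) ^ t * ((F.e j) ^ t)⁻¹ := by
      rw [(show Commute (a * F.e j * a⁻¹) (F.e j)⁻¹ from F.comm _ hA _ (inv_mem he)).mul_zpow, inv_zpow]
    rw [commutatorElement_def, commutatorElement_def, hd, h1, hrt, mul_inv_rev]
    calc r * (a * F.e j * a⁻¹) ^ t * ((F.e j ^ t)⁻¹ * r⁻¹)
        = r * ((a * F.e j * a⁻¹) ^ t * (F.e j ^ t)⁻¹) * r⁻¹ := by group
      _ = _ := by
        rw [F.comm r (F.le_of j _ hj.le hr) _ (mul_mem (zpow_mem hA t) (inv_mem (zpow_mem he t))),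
          mul_inv_cancel_right]
  rw [hej]
  refine ⟨zpow_mem ha1 t, fun hmem => ?_⟩
  -- `t` is prime to `p`
  have ht : ¬ (p : ℤ) ∣ t := by
    rintro ⟨s, rfl⟩
    refine hb2 ?_
    rw [hrt, zpow_mul, zpow_natCast]
    exact mul_mem hr (zpow_mem (F.pow j hj _ (F.mem j hj)) s)
  obtain ⟨x₀, y₀, hxy⟩ := ((Nat.prime_iff_prime_int.mp hp.out).coprime_iff_not_dvd.mpr ht)
  refine ha2 ?_
  have h1 : ⁅a, F.e j⁆ = (⁅a, F.e j⁆ ^ (p : ℤ)) ^ x₀ * (⁅a, F.e j⁆ ^ t) ^ y₀ := by
    rw [← zpow_mul, ← zpow_mul, ← zpow_add, mul_comm (p : ℤ) x₀, mul_comm t y₀, hxy, zpow_one]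
  rw [h1]
  exact mul_mem (zpow_mem (by rw [zpow_natCast]; exact F.pow i (hij.trans hj) _ ha1) x₀) (zpow_mem hmem y₀)

/-- An element not centralising the subgroup has a leading position. -/
theorem exists_lead (h : P) (hh : ¬ ∀ v ∈ F.A F.a, Commute h v) : ∃ i j, F.Lead h i j := by
  have hex : ∃ j, j < F.a ∧ ¬ Commute h (F.e j) := by
    by_contra hno
    push Not at hno
    refine hh ?_
    suffices ∀ n ≤ F.a, ∀ v ∈ F.A n, Commute h v from this F.a le_rfl
    intro n
    induction n with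
    | zero => intro _ v hv; rw [F.bot, mem_bot] at hv; rw [hv]; exact Commute.one_right h
    | succ n ih =>
      intro hn v hv
      obtain ⟨r, hr, t, rfl⟩ := F.exists_decomp hn hv
      exact (ih (Nat.le_of_lt hn) r hr).mul_right ((hno n hn).zpow_right t)
  set j := Nat.find hex
  obtain ⟨hj, hne⟩ := Nat.find_spec hex
  have hfix : ∀ n ≤ j, ∀ v ∈ F.A n, Commute h v := by
    intro n
    induction n with
    | zero => intro _ v hv; rw [F.bot, mem_bot] at hv; rw [hv]; exact Commute.one_right h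
    | succ n ih =>
      intro hn v hv
      obtain ⟨r, hr, t, rfl⟩ := F.exists_decomp (lt_of_lt_of_le hn hj.le) hv
      have hn' : Commute h (F.e n) := by
        by_contra hc
        exact Nat.find_min hex hn ⟨lt_of_lt_of_le hn hj.le, hc⟩
      exact (ih (Nat.le_of_lt hn) r hr).mul_right (hn'.zpow_right t)
  have hc : ⁅h, F.e j⁆ ∈ F.A j := F.central j hj _ (F.mem j hj) h
  have hex' : ∃ i, ⁅h, F.e j⁆ ∈ F.A (i + 1) := by
    refine ⟨j, F.le_of j (j + 1) (Nat.le_succ j) hc⟩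
  set i := Nat.find hex'
  have hi2 : ⁅h, F.e j⁆ ∉ F.A i := by
    intro hmem
    rcases Nat.eq_zero_or_pos i with h0 | hpos
    · rw [h0, F.bot, mem_bot] at hmem
      exact hne (commutatorElement_eq_one_iff_mul_comm.mp hmem)
    · exact Nat.find_min hex' (show i - 1 < i by omega) (by rwa [Nat.sub_add_cancel hpos])
  have hij : i < j := by
    by_contra hle
    exact hi2 (F.le_of j i (not_lt.mp hle) hc)
  exact ⟨i, j, hij, hj, hfix j le_rfl, Nat.find_spec hex', hi2⟩

/-- The action of a subgroup needs at most a quarter of the square many generators. -/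
theorem exists_generators (H : Subgroup P) : ∃ T : Finset P, 4 * T.card ≤ F.a * F.a ∧ (T : Set P) ⊆ H ∧
    ∀ C : Subgroup P, (∀ h ∈ H, (∀ v ∈ F.A F.a, Commute h v) → h ∈ C) →
      H ≤ closure (T : Set P) ⊔ C := by
  set E : Finset (ℕ × ℕ) := ((Finset.range F.a) ×ˢ (Finset.range F.a)).filter fun e =>
    (∃ h ∈ H, F.Lead h e.1 e.2) ∧
      ¬ ∃ m, (∃ h ∈ H, F.Lead h e.1 m) ∧ ∃ h ∈ H, F.Lead h m e.2 with hE
  have hcard : 4 * E.card ≤ F.a * F.a := by
    refine four_mul_card_le F.a (Finset.range F.a) (Finset.card_range _) E ?_ ?_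
    · intro e he
      rw [hE, Finset.mem_filter, Finset.mem_product] at he
      obtain ⟨⟨h1, h2⟩, ⟨h, -, hl⟩, -⟩ := he
      exact ⟨h1, h2, hl.1⟩
    · intro i m j h1 h2 h3
      rw [hE, Finset.mem_filter] at h1 h2 h3
      exact h3.2.2 ⟨m, h1.2.1, h2.2.1⟩
  choose! g hgH hg using fun (e : ℕ × ℕ) (he : e ∈ E) => ((Finset.mem_filter.mp he).2.1 :
    ∃ h ∈ H, F.Lead h e.1 e.2)
  refine ⟨E.image g, le_trans (Nat.mul_le_mul_left 4 Finset.card_image_le) hcard, ?_, fun C hC => ?_⟩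
  · intro x hx
    rw [Finset.mem_coe, Finset.mem_image] at hx
    obtain ⟨e, he, rfl⟩ := hx
    exact hgH e he
  set K := closure ((E.image g : Finset P) : Set P) ⊔ C
  let rk : ℕ → ℕ → ℕ := fun i j => j * F.a + (F.a - 1 - i)
  -- every leading position occurs in the generated subgroup
  have hreal : ∀ (N i j : ℕ), rk i j < N → (∃ h ∈ H, F.Lead h i j) →
      ∃ k ∈ closure ((E.image g : Finset P) : Set P), F.Lead k i j := by
    intro N
    induction N with
    | zero => intro i j h; exact absurd h (Nat.not_lt_zero _)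
    | succ N ih =>
      intro i j hN hex
      obtain ⟨h, -, hij, hj, -⟩ := id hex
      by_cases he : (i, j) ∈ E
      · exact ⟨g (i, j), subset_closure (Finset.mem_coe.mpr (Finset.mem_image_of_mem g he)), hg (i, j) he⟩
      · rw [hE, Finset.mem_filter] at he
        push Not at he
        obtain ⟨m, h1, h2⟩ := he (Finset.mem_product.mpr ⟨Finset.mem_range.mpr (hij.trans hj),
          Finset.mem_range.mpr hj⟩) hex
        obtain ⟨x, -, hx⟩ := id h1
        obtain ⟨y, -, hy⟩ := id h2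
        have hmj : m < j := hy.1
        have him : i < m := hx.1
        have r1 : rk i m < N := by
          have : (m + 1) * F.a ≤ j * F.a := Nat.mul_le_mul_right _ hmj
          simp only [rk] at hN ⊢
          rw [Nat.succ_mul] at this
          omega
        have r2 : rk m j < N := by simp only [rk] at hN ⊢; omega
        obtain ⟨ka, hka, hka'⟩ := ih i m r1 h1
        obtain ⟨kb, hkb, hkb'⟩ := ih m j r2 h2
        refine ⟨⁅ka, kb⁆, ?_, hka'.commutator hkb'⟩
        rw [commutatorElement_def]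
        exact mul_mem (mul_mem (mul_mem hka hkb) (inv_mem hka)) (inv_mem hkb)
  have hTH : closure ((E.image g : Finset P) : Set P) ≤ H := by
    rw [closure_le]
    intro x hx
    rw [Finset.mem_coe, Finset.mem_image] at hx
    obtain ⟨e, he, rfl⟩ := hx
    exact hgH e he
  -- elimination
  suffices ∀ (N : ℕ) (h : P), h ∈ H → (∀ i j, F.Lead h i j → F.a * F.a < rk i j + N) → h ∈ K by
    intro h hh
    exact this (F.a * F.a + 1) h hh fun i j _ => by omega
  intro N
  induction N with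
  | zero =>
    intro h hh hlead
    by_cases hc : ∀ v ∈ F.A F.a, Commute h v
    · exact mem_sup_right (hC h hh hc)
    · obtain ⟨i, j, hl⟩ := F.exists_lead h hc
      have := hlead i j hl
      have : (j + 1) * F.a ≤ F.a * F.a := Nat.mul_le_mul_right _ hl.2.1
      rw [Nat.succ_mul] at this
      simp only [rk] at *
      omega
  | succ N ih =>
    intro h hh hlead
    by_cases hc : ∀ v ∈ F.A F.a, Commute h v
    · exact mem_sup_right (hC h hh hc)
    obtain ⟨i, j, hl⟩ := F.exists_lead h hc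
    obtain ⟨k, hk, hkl⟩ := hreal (rk i j + 1) i j (Nat.lt_succ_self _) ⟨h, hh, hl⟩
    obtain ⟨hij, hj, hhfix, hh1, hh2⟩ := hl
    obtain ⟨-, -, hkfix, hk1, hk2⟩ := id hkl
    set c := ⁅h, F.e j⁆
    set ck := ⁅k, F.e j⁆
    have hspan : F.A (i + 1) ≤ F.A i ⊔ zpowers ck := by
      obtain ⟨r, hr, t, hrt⟩ := F.exists_decomp (hij.trans hj) hk1
      have ht : ¬ (p : ℤ) ∣ t := by
        rintro ⟨s, rfl⟩
        refine hk2 ?_
        rw [hrt, zpow_mul, zpow_natCast]
        exact mul_mem hr (zpow_mem (F.pow i (hij.trans hj) _ (F.mem i (hij.trans hj))) s)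
      obtain ⟨x₀, y₀, hxy⟩ := ((Nat.prime_iff_prime_int.mp hp.out).coprime_iff_not_dvd.mpr ht)
      rw [F.span i (hij.trans hj)]
      refine sup_le le_sup_left (zpowers_le.mpr ?_)
      have h1 : F.e i = (F.e i ^ (p : ℤ)) ^ x₀ * (r⁻¹ * ck) ^ y₀ := by
        rw [hrt, inv_mul_cancel_left, ← zpow_mul, ← zpow_mul, ← zpow_add, mul_comm (p : ℤ) x₀,
          mul_comm t y₀, hxy, zpow_one]
      rw [h1]
      exact mul_mem (mem_sup_left (zpow_mem (by
          rw [zpow_natCast]; exact F.pow i (hij.trans hj) _ (F.mem i (hij.trans hj))) x₀))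
        (zpow_mem (mul_mem (mem_sup_left (inv_mem hr)) (mem_sup_right (mem_zpowers ck))) y₀)
    have hn : zpowers ck ≤ normalizer (F.A i : Set P) := zpowers_le.mpr (mem_normalizer_iff.mpr fun r =>
      ⟨fun hr => F.conj_mem (hij.trans hj).le hr ck, fun hr => by
        have := F.conj_mem (hij.trans hj).le hr ck⁻¹
        rwa [show ck⁻¹ * (ck * r * ck⁻¹) * ck⁻¹⁻¹ = r by group] at this⟩)
    obtain ⟨r, hr, y, hy, hry⟩ := (Cfsg.Lib.Coprime.mem_sup_of_le_normalizer hn).mp (hspan hh1)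
    obtain ⟨t, rfl⟩ := mem_zpowers_iff.mp hy
    -- correct `h` by a power of `k`
    have hkpow : ∀ t : ℤ, ⁅k ^ t, F.e j⁆ = ck ^ t := by
      intro t
      induction t using Int.induction_on with
      | zero => rw [zpow_zero, zpow_zero, commutatorElement_one_left]
      | succ n ihn =>
        rw [zpow_add_one, commutator_mul_of_fixed ((hkfix _ (F.le_of (i + 1) j hij hk1)).zpow_left n), ihn,
          zpow_add_one, (Commute.self_zpow ck (n : ℤ)).eq]
      | pred n ihn =>
        have h1 := commutator_mul_of_fixed (h := k ^ (-(n : ℤ) - 1)) (h' := k) (x := F.e j)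
          ((hkfix _ (F.le_of (i + 1) j hij hk1)).zpow_left _)
        rw [← zpow_add_one, sub_add_cancel, ihn] at h1
        have h2 : Commute ck ⁅k ^ (-(n : ℤ) - 1), F.e j⁆ :=
          F.comm _ (F.le_of (i + 1) _ (hij.trans hj) hk1) _
            (F.le_of j _ hj.le (F.central j hj _ (F.mem j hj) _))
        calc ⁅k ^ (-(n : ℤ) - 1), F.e j⁆ = ⁅k ^ (-(n : ℤ) - 1), F.e j⁆ * ck * ck⁻¹ :=
              (mul_inv_cancel_right _ _).symm
          _ = ck ^ (-(n : ℤ)) * ck⁻¹ := by rw [← h2.eq, ← h1]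
          _ = _ := (zpow_sub_one ck _).symm
    have hkt : (k ^ t)⁻¹ = k ^ (-t) := (zpow_neg k t).symm
    set d := h * (k ^ t)⁻¹ with hd
    have hdH : d ∈ H := mul_mem hh (inv_mem (zpow_mem (hTH hk) t))
    have hdfix : ∀ v ∈ F.A j, Commute d v := fun v hv =>
      (hhfix v hv).mul_left (((hkfix v hv).zpow_left t).inv_left)
    have hde : ⁅d, F.e j⁆ ∈ F.A i := by
      rw [hd, hkt, commutator_mul_of_fixed (hhfix _ (F.central j hj _ (F.mem j hj) _)), hkpow]
      show ck ^ (-t) * c ∈ F.A i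
      rw [show c = r * ck ^ t from hry.symm, ← mul_assoc,
        F.comm (ck ^ (-t)) (F.le_of (i + 1) _ (hij.trans hj) (zpow_mem hk1 _)) r
          (F.le_of i _ (hij.trans hj).le hr), mul_assoc, ← zpow_add, neg_add_cancel, zpow_zero, mul_one]
      exact hr
    have hdK : d ∈ K := by
      refine ih d hdH fun i' j' hl' => ?_
      have h0 := hlead i j ⟨hij, hj, hhfix, hh1, hh2⟩
      obtain ⟨hij', hj', hfix', hd1, hd2⟩ := hl'
      have hjj : j ≤ j' := by
        by_contra hlt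
        refine hd2 ?_
        rw [commutatorElement_eq_one_iff_mul_comm.mpr (hdfix _ (F.le_of (j' + 1) j (not_le.mp hlt) (F.mem j' hj')))]
        exact one_mem _
      simp only [rk] at h0 ⊢
      rcases eq_or_lt_of_le hjj with rfl | hlt
      · have : i' < i := by
          by_contra hge
          exact hd2 (F.le_of i i' (not_lt.mp hge) hde)
        omega
      · have : (j + 1) * F.a ≤ j' * F.a := Nat.mul_le_mul_right _ hlt
        rw [Nat.succ_mul] at this
        omega
    have := mul_mem hdK (mem_sup_left (zpow_mem hk t) : k ^ t ∈ K)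
    rwa [hd, inv_mul_cancel_right] at this

end Flag

/-- Existence of a flag. -/
theorem exists_flag (hP : IsPGroup p P) (A : Subgroup P) [hAn : A.Normal] (hA : IsMulCommutative A)
    {a : ℕ} (ha : Nat.card A = p ^ a) : ∃ F : Flag P p, F.a = a ∧ F.A a = A := by
  have hch : ∀ n ≤ a, ∃ c : ℕ → Subgroup P, c 0 = ⊥ ∧ (∀ i ≤ n, (c i).Normal ∧ c i ≤ A ∧ Nat.card (c i) = p ^ i) ∧
      (∀ i < n, c i ≤ c (i + 1) ∧ ∀ x ∈ c (i + 1), ∀ h : P, ⁅h, x⁆ ∈ c i) := by
    intro n
    induction n with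
    | zero =>
      exact fun _ => ⟨fun _ => ⊥, rfl, fun i hi => ⟨inferInstance, bot_le,
        by rw [Nat.le_zero.mp hi, pow_zero, card_bot]⟩, fun i hi => absurd hi (Nat.not_lt_zero i)⟩
    | succ n ih =>
      intro hn
      obtain ⟨c, h0, hc, hs⟩ := ih (Nat.le_of_lt hn)
      obtain ⟨hnn, hnA, hncard⟩ := hc n le_rfl
      haveI := hnn
      have hlt : c n < A := lt_of_le_of_ne hnA fun e => by
        rw [e, ha] at hncard
        exact absurd (Nat.pow_right_injective hp.out.two_le hncard) (by omega)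
      obtain ⟨B, hB, hcB, hBA, hi⟩ := Cfsg.Lib.PGroups.exists_normal_relIndex_prime hP hlt
      haveI := hB
      have hcard : Nat.card B = p ^ (n + 1) := by
        have := relIndex_mul_relIndex (⊥ : Subgroup P) (c n) B bot_le hcB
        rw [relIndex_bot_left, relIndex_bot_left, hi, hncard] at this
        rw [← this, pow_succ]
      have hcen : ∀ x ∈ B, ∀ h : P, ⁅h, x⁆ ∈ c n := by
        intro x hx h
        haveI : (B.map (QuotientGroup.mk' (c n))).Normal := hB.map _ (QuotientGroup.mk'_surjective _)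
        have hBc : Nat.card (B.map (QuotientGroup.mk' (c n))) = p := by
          have h1 := Subgroup.relIndex_ker (f := QuotientGroup.mk' (c n)) (K := B)
          rw [QuotientGroup.ker_mk', hi] at h1
          exact h1.symm
        have hle : B.map (QuotientGroup.mk' (c n)) ≤ center (P ⧸ c n) :=
          Cfsg.Lib.PGroups.le_center_of_card_eq_prime (hP.to_quotient (c n)) hBc
        rw [← QuotientGroup.eq_one_iff]
        show QuotientGroup.mk' (c n) ⁅h, x⁆ = 1
        rw [map_commutatorElement, commutatorElement_eq_one_iff_mul_comm]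
        exact mem_center_iff.mp (hle (mem_map_of_mem _ hx)) _
      refine ⟨fun i => if i ≤ n then c i else B, by simp [h0], fun i hi => ?_, fun i hi => ?_⟩
      · dsimp only
        by_cases hin : i ≤ n
        · rw [if_pos hin]; exact hc i hin
        · rw [if_neg hin, show i = n + 1 by omega]; exact ⟨hB, hBA, hcard⟩
      · dsimp only
        by_cases hin : i + 1 ≤ n
        · rw [if_pos hin, if_pos (show i ≤ n by omega)]; exact hs i hin
        · obtain rfl : i = n := by omega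
          rw [if_neg hin, if_pos le_rfl]
          exact ⟨hcB, hcen⟩
  obtain ⟨c, h0, hc, hs⟩ := hch a le_rfl
  have hle_of : ∀ i j, i ≤ j → c (min i a) ≤ c (min j a) := by
    intro i j hij
    induction j, hij using Nat.le_induction with
    | base => exact le_rfl
    | succ j _ ih =>
      refine ih.trans ?_
      by_cases hj : j < a
      · rw [min_eq_left hj.le, min_eq_left hj]; exact (hs j hj).1
      · rw [min_eq_right (not_lt.mp hj), min_eq_right (le_trans (not_lt.mp hj) (Nat.le_succ j))]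
  have hne : ∀ i, ∃ x, i < a → x ∈ c (i + 1) ∧ x ∉ c i := fun i => by
    by_cases hi : i < a
    · obtain ⟨x, hx, hx'⟩ := SetLike.not_le_iff_exists.mp (fun hle : c (i + 1) ≤ c i => by
        have := Subgroup.card_le_of_le hle
        rw [(hc i hi.le).2.2, (hc (i + 1) hi).2.2] at this
        exact absurd this (not_le.mpr (Nat.pow_lt_pow_succ hp.out.one_lt)))
      exact ⟨x, fun _ => ⟨hx, hx'⟩⟩
    · exact ⟨1, fun h => absurd h hi⟩
  choose e he using hne
  have hrel : ∀ i < a, (c i).relIndex (c (i + 1)) = p := fun i hi => by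
    have := relIndex_mul_relIndex (⊥ : Subgroup P) (c i) (c (i + 1)) bot_le (hs i hi).1
    rw [relIndex_bot_left, relIndex_bot_left, (hc i hi.le).2.2, (hc (i + 1) hi).2.2, pow_succ] at this
    exact Nat.eq_of_mul_eq_mul_left (pow_pos hp.out.pos i) this
  have hA' : ∀ x ∈ c a, ∀ y ∈ c a, x * y = y * x := fun x hx y hy =>
    congrArg Subtype.val (hA.is_comm.comm (⟨x, (hc a le_rfl).2.1 hx⟩ : A) ⟨y, (hc a le_rfl).2.1 hy⟩)
  let F : Flag P p :=
    { a := a
      A := fun i => c (min i a)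
      e := e
      bot := by simp [h0]
      le_of := hle_of
      comm := fun x hx y hy => hA' x (by rwa [min_self] at hx) y (by rwa [min_self] at hy)
      mem := fun i hi => by rw [min_eq_left hi]; exact (he i hi).1
      nmem := fun i hi => by rw [min_eq_left hi.le]; exact (he i hi).2
      span := ?_
      pow := ?_
      central := ?_ }
  · exact ⟨F, rfl, by
      show c (min a a) = A
      rw [min_self]
      exact Subgroup.eq_of_le_of_card_ge (hc a le_rfl).2.1 (by rw [(hc a le_rfl).2.2, ha])⟩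
  · intro i hi
    rw [min_eq_left hi, min_eq_left hi.le]
    exact Cfsg.Lib.PGroups.eq_sup_zpowers_of_relIndex_prime (hs i hi).1 (hrel i hi) (he i hi).1 (he i hi).2
  · intro i hi x hx
    rw [min_eq_left hi] at hx
    rw [min_eq_left hi.le]
    haveI := (hc i hi.le).1
    have h2 := Subgroup.pow_index_mem ((c i).subgroupOf (c (i + 1))) ⟨x, hx⟩
    rw [show ((c i).subgroupOf (c (i + 1))).index = p from hrel i hi] at h2
    exact h2
  · intro i hi x hx h
    rw [min_eq_left hi] at hx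
    rw [min_eq_left hi.le]
    exact (hs i hi).2 x hx h

end Cfsg.Lib.GenBound
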