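import Mathlib.Data.Finset.Card
import Mathlib.Data.Fintype.Prod
import Mathlib.Tactic.Linarith

/-!
An acyclic relation without directed triangles has at most a quarter of the square many pairs.
-/

set_option autoImplicit false

namespace Cfsg.Lib.GenBound

open scoped Classical

theorem four_mul_card_le : ∀ (n : ℕ) (V : Finset ℕ), V.card = n → ∀ E : Finset (ℕ × ℕ),
    (∀ e ∈ E, e.1 ∈ V ∧ e.2 ∈ V ∧ e.1 < e.2) →
    (∀ i m j, (i, m) ∈ E → (m, j) ∈ E → (i, j) ∉ E) → 4 * E.card ≤ n * n := by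
  intro n
  induction n using Nat.strong_induction_on with
  | _ n ih =>
  intro V hV E hE htri
  rcases E.eq_empty_or_nonempty with rfl | ⟨⟨a, b⟩, hab⟩
  · simp
  obtain ⟨ha, hb, hlt⟩ := hE _ hab
  set V' := V \ {a, b} with hV'
  set E' := E.filter fun e => e.1 ∈ V' ∧ e.2 ∈ V' with hE'
  have hcard : V'.card + 2 = n := by
    rw [hV', Finset.card_sdiff_of_subset (by simp [Finset.subset_iff, ha, hb]), Finset.card_pair hlt.ne,
      hV]
    have : 2 ≤ n := by
      rw [← hV, ← Finset.card_pair hlt.ne]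
      exact Finset.card_le_card (by simp [Finset.subset_iff, ha, hb])
    omega
  have h1 := ih V'.card (by omega) V' rfl E' (fun e he => by
      rw [hE', Finset.mem_filter] at he
      exact ⟨he.2.1, he.2.2, (hE e he.1).2.2⟩) (fun i m j h1 h2 h3 => htri i m j
        (Finset.filter_subset _ _ h1) (Finset.filter_subset _ _ h2) (Finset.filter_subset _ _ h3))
  -- each further vertex meets the chosen pair at most once
  set E'' := (E \ E').erase (a, b) with hE''
  let φ : ℕ × ℕ → ℕ := fun e => if e.1 = a ∨ e.1 = b then e.2 else e.1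
  have hmem : ∀ e ∈ E'', e ∈ E ∧ e ≠ (a, b) ∧ φ e ∈ V' ∧
      ((e.1 = a ∨ e.1 = b) ∧ e.2 = φ e ∨ (e.2 = a ∨ e.2 = b) ∧ e.1 = φ e) := by
    intro e he
    obtain ⟨hne, he'⟩ := Finset.mem_erase.mp he
    obtain ⟨heE, hnot⟩ := Finset.mem_sdiff.mp he'
    obtain ⟨x, y⟩ := e
    obtain ⟨hx, hy, hxy⟩ := hE _ heE
    have hnot' : ¬((x ∈ V \ {a, b}) ∧ (y ∈ V \ {a, b})) := fun h => hnot (Finset.mem_filter.mpr ⟨heE, h⟩)
    simp only [Finset.mem_sdiff, hx, hy, true_and, Finset.mem_insert, Finset.mem_singleton] at hnot'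
    refine ⟨heE, hne, ?_⟩
    simp only [φ]
    by_cases hxab : x = a ∨ x = b
    · rw [if_pos hxab]
      refine ⟨Finset.mem_sdiff.mpr ⟨hy, ?_⟩, Or.inl ⟨hxab, rfl⟩⟩
      simp only [Finset.mem_insert, Finset.mem_singleton]
      rintro (rfl | rfl)
      · rcases hxab with rfl | rfl
        · exact lt_irrefl _ hxy
        · exact absurd (lt_trans hlt hxy) (lt_irrefl _)
      · rcases hxab with rfl | rfl
        · exact hne rfl
        · exact lt_irrefl _ hxy
    · rw [if_neg hxab]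
      have hyab : y = a ∨ y = b := by
        by_contra h
        exact hnot' ⟨hxab, h⟩
      exact ⟨Finset.mem_sdiff.mpr ⟨hx, by simp only [Finset.mem_insert, Finset.mem_singleton]; exact hxab⟩,
        Or.inr ⟨hyab, rfl⟩⟩
  have h2 : E''.card ≤ V'.card := by
    refine Finset.card_le_card_of_injOn φ (fun e he => (hmem e he).2.2.1) ?_
    intro e he e' he' heq
    obtain ⟨heE, -, hv, hs⟩ := hmem e he
    obtain ⟨heE', -, -, hs'⟩ := hmem e' he'
    obtain ⟨x, y⟩ := e
    obtain ⟨x', y'⟩ := e'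
    set v := φ (x, y)
    rw [← heq] at hs'
    have hxy : x < y := (hE _ heE).2.2
    have hxy' : x' < y' := (hE _ heE').2.2
    have hva : v ≠ a ∧ v ≠ b := by simpa [hV', not_or] using (Finset.mem_sdiff.mp hv).2
    -- the edge joining `v` to a point of the pair
    have hnot : ¬ (((a, v) ∈ E ∨ (v, a) ∈ E) ∧ ((b, v) ∈ E ∨ (v, b) ∈ E)) := by
      rintro ⟨h1 | h1, h2 | h2⟩
      · exact htri a b v hab h2 h1
      · exact htri a v b h1 h2 hab
      · exact absurd ((hE _ h1).2.2.trans hlt) (not_lt.mpr (hE _ h2).2.2.le)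
      · exact htri v a b h1 hab h2
    have hside : ∀ (x y : ℕ), (x, y) ∈ E → (((x = a ∨ x = b) ∧ y = v) ∨ ((y = a ∨ y = b) ∧ x = v)) →
        ((x, y) = (a, v) ∨ (x, y) = (v, a)) ∧ ((a, v) ∈ E ∨ (v, a) ∈ E) ∨
        ((x, y) = (b, v) ∨ (x, y) = (v, b)) ∧ ((b, v) ∈ E ∨ (v, b) ∈ E) := by
      intro x y he h
      rcases h with ⟨rfl | rfl, rfl⟩ | ⟨rfl | rfl, rfl⟩
      · exact Or.inl ⟨Or.inl rfl, Or.inl he⟩
      · exact Or.inr ⟨Or.inl rfl, Or.inl he⟩
      · exact Or.inl ⟨Or.inr rfl, Or.inr he⟩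
      · exact Or.inr ⟨Or.inr rfl, Or.inr he⟩
    have hdir : ∀ c : ℕ, (c, v) ∈ E → (v, c) ∉ E := fun c h1 h2 =>
      absurd (hE _ h1).2.2 (not_lt.mpr (hE _ h2).2.2.le)
    rcases hside x y heE hs with ⟨h, h'⟩ | ⟨h, h'⟩ <;> rcases hside x' y' heE' hs' with ⟨k, k'⟩ | ⟨k, k'⟩
    · rcases h with h | h <;> rcases k with k | k
      · rw [h, k]
      · exact absurd (k ▸ heE') (hdir a (h ▸ heE))
      · exact absurd (h ▸ heE) (hdir a (k ▸ heE'))
      · rw [h, k]
    · exact absurd ⟨h', k'⟩ hnot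
    · exact absurd ⟨k', h'⟩ hnot
    · rcases h with h | h <;> rcases k with k | k
      · rw [h, k]
      · exact absurd (k ▸ heE') (hdir b (h ▸ heE))
      · exact absurd (h ▸ heE) (hdir b (k ▸ heE'))
      · rw [h, k]
  have hsub : E ⊆ E' ∪ insert (a, b) E'' := by
    intro e he
    by_cases h : e ∈ E'
    · exact Finset.mem_union_left _ h
    · refine Finset.mem_union_right _ ?_
      by_cases h' : e = (a, b)
      · exact h' ▸ Finset.mem_insert_self _ _
      · exact Finset.mem_insert_of_mem (Finset.mem_erase.mpr ⟨h', Finset.mem_sdiff.mpr ⟨he, h⟩⟩)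
  have h3 : E.card ≤ E'.card + (E''.card + 1) :=
    (Finset.card_le_card hsub).trans ((Finset.card_union_le _ _).trans
      (Nat.add_le_add_left (Finset.card_insert_le _ _) _))
  subst hcard
  nlinarith

end Cfsg.Lib.GenBound
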